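import Cfsg.Agent.H497.HM.GOrd
import Cfsg.Agent.H831.GenFit
import Cfsg.Agent.H427.TWComp
import Cfsg.Agent.S2906

/-!
# S5175 L, group side: `F*(G)` and `O²(G)` (helper497)

`stG5 : StG5`.
-/

set_option autoImplicit false

namespace Cfsg.Agent.H497.HM

open Cfsg Cfsg.Agent.H780.HL
open scoped commutatorElement

universe u

theorem mem_of_coprime {G : Type*} [Group G] {S : Subgroup G} {n : G} {a b : ℕ} (hab : Nat.Coprime a b)
    (ha : n ^ a ∈ S) (hb : n ^ b ∈ S) : n ∈ S := by
  have h1 := Nat.gcd_eq_gcd_ab a b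
  rw [hab] at h1
  have h2 : n = (n ^ a) ^ Nat.gcdA a b * (n ^ b) ^ Nat.gcdB a b := by
    rw [← zpow_natCast, ← zpow_natCast, ← zpow_mul, ← zpow_mul, ← zpow_add, ← h1]
    simp
  rw [h2]
  exact mul_mem (zpow_mem ha _) (zpow_mem hb _)

theorem residual_eq {G : Type*} [Group G] [Finite G] {N M : Subgroup G} [hNn : N.Normal] (hN : N ≤ pResidual 2 G)
    (hM : M.index = 2) (ho : Odd (N.relIndex M)) : pResidual 2 G = M := by
  have := Fact.mk Nat.prime_two
  apply le_antisymm
  · refine (Subgroup.closure_le M).2 fun g hg => ?_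
    have h1 : Odd (orderOf g) := Nat.coprime_two_right.1 hg
    obtain ⟨j, hj⟩ := h1
    have h2 : g ^ 2 ∈ M := by
      have hMn : M.Normal := Subgroup.normal_of_index_eq_two hM
      have := Subgroup.pow_index_mem M g
      rwa [hM] at this
    have h3 : (g ^ 2) ^ (j + 1) = g := by
      rw [← pow_mul, show 2 * (j + 1) = orderOf g + 1 by omega, pow_succ, pow_orderOf_eq_one, one_mul]
    rw [SetLike.mem_coe, ← h3]
    exact pow_mem h2 _
  · intro m hm
    obtain ⟨k, b, hb, hk⟩ := Nat.exists_eq_two_pow_mul_odd (orderOf_pos m).ne'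
    have h1 : m ^ 2 ^ k ∈ pResidual 2 G := by
      apply Subgroup.subset_closure
      change Nat.Coprime (orderOf (m ^ 2 ^ k)) 2
      rw [orderOf_pow' m (by positivity), hk, Nat.gcd_eq_right (Dvd.intro _ rfl),
        Nat.mul_div_cancel_left _ (by positivity)]
      exact Nat.coprime_two_right.2 hb
    have h2 : m ^ N.relIndex M ∈ pResidual 2 G := by
      apply hN
      have h3 : (N.subgroupOf M).Normal := inferInstance
      have h4 := Subgroup.pow_index_mem (N.subgroupOf M) ⟨m, hm⟩
      exact h4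
    exact mem_of_coprime (Nat.Coprime.pow_left k (Nat.coprime_two_left.2 ho)) h1 h2

section

variable {K : Type} [Field K] [Fintype K]

omit [Fintype K] in
theorem fixes_of_commute {α : MulAut (SL3 K)} (h : ∀ s, α * MulAut.conj s = MulAut.conj s * α) : α = 1 := by
  have hz : ∀ s, s⁻¹ * α s ∈ Subgroup.center (SL3 K) := by
    intro s
    apply conj_eq
    rw [← act_conj, h s, mul_inv_cancel_right]
  have hcomm : ∀ s t : SL3 K, α ⁅s, t⁆ = ⁅s, t⁆ := by
    intro s t
    obtain ⟨z, hz1, hz2⟩ : ∃ z, z ∈ Subgroup.center (SL3 K) ∧ α s = s * z :=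
      ⟨_, hz s, by rw [mul_inv_cancel_left]⟩
    obtain ⟨w, hw1, hw2⟩ : ∃ z, z ∈ Subgroup.center (SL3 K) ∧ α t = t * z :=
      ⟨_, hz t, by rw [mul_inv_cancel_left]⟩
    rw [map_commutatorElement, hz2, hw2, commutatorElement_def, commutatorElement_def]
    have e1 : ∀ g, g * z = z * g := Subgroup.mem_center_iff.1 hz1
    have e2 : ∀ g, g * w = w * g := Subgroup.mem_center_iff.1 hw1
    have e3 : ∀ g, g * z⁻¹ = z⁻¹ * g := Subgroup.mem_center_iff.1 (inv_mem hz1)
    have e4 : ∀ g, g * w⁻¹ = w⁻¹ * g := Subgroup.mem_center_iff.1 (inv_mem hw1)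
    calc s * z * (t * w) * (s * z)⁻¹ * (t * w)⁻¹ = s * z * t * w * (z⁻¹ * s⁻¹) * (w⁻¹ * t⁻¹) := by group
      _ = s * (t * z) * w * (z⁻¹ * s⁻¹) * (w⁻¹ * t⁻¹) := by rw [e1 t]; group
      _ = s * t * (z * w * z⁻¹) * s⁻¹ * (w⁻¹ * t⁻¹) := by group
      _ = s * t * w * (s⁻¹ * w⁻¹) * t⁻¹ := by rw [← e1 w]; group
      _ = s * t * s⁻¹ * t⁻¹ := by rw [e4 s⁻¹]; group
  have htop : commutator (SL3 K) = ⊤ := LieClassical.SLGen.commutator_eq_top (by simp)
  apply MulEquiv.ext
  intro s
  have hs : s ∈ commutator (SL3 K) := by rw [htop]; trivial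
  rw [commutator_eq_closure] at hs
  have hle : Subgroup.closure (commutatorSet (SL3 K)) ≤ (α.toMonoidHom).eqLocus (MonoidHom.id _) := by
    rw [Subgroup.closure_le]
    rintro _ ⟨a, b, rfl⟩
    exact hcomm a b
  exact hle hs

omit [Fintype K] in
theorem innS_simple : IsSimpleGroup (InnS K) := by
  have : IsSimpleGroup (Matrix.ProjectiveSpecialLinearGroup (Fin 3) K) :=
    LieClassical.SLGen.psl_isSimpleGroup (by simp)
  exact (innS_equiv (K := K)).isSimpleGroup

omit [Fintype K] in
theorem innS_nonabelian [CharP K 2] : ¬ IsMulCommutative (InnS K) := by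
  intro h
  have h1 := h.is_comm.comm (⟨MulAut.conj (um 1 0 0), ⟨_, rfl⟩⟩ : InnS K) ⟨MulAut.conj (um 0 1 0), ⟨_, rfl⟩⟩
  have h2 : MulAut.conj (um (1 : K) 0 0) * MulAut.conj (um 0 1 0) = MulAut.conj (um 0 1 0) * MulAut.conj (um 1 0 0) :=
    congrArg Subtype.val h1
  rw [← map_mul, ← map_mul, um_mul, um_mul] at h2
  have h3 := (conj_um_inj h2).2.2
  simp at h3

end

/-- **G5.** -/
theorem stG5 : StG5.{u} := by
  intro K _ _ Y hY G _ e
  have hch := charP_two hY.char2
  have hInn := innS_normal (K := K)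
  have hfin : Finite G := Finite.of_equiv _ e.symm.toEquiv
  set N : Subgroup G := ((InnS K).subgroupOf (GG Y)).comap e.toMonoidHom with hNdef
  set M : Subgroup G := ((MM Y).subgroupOf (GG Y)).comap e.toMonoidHom with hMdef
  have hsurj : Function.Surjective e.toMonoidHom := e.surjective
  have hNn : N.Normal := inferInstance
  have hmap : N.map e.toMonoidHom = (InnS K).subgroupOf (GG Y) :=
    Subgroup.map_comap_eq_self_of_surjective hsurj _
  have eN : N ≃* InnS K := (e.subgroupMap N).trans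
    ((MulEquiv.subgroupCongr hmap).trans (Subgroup.subgroupOfEquivOfLe le_sup_left))
  have hsimp : IsSimpleGroup (InnS K) := innS_simple
  have hNs : IsSimpleGroup N := eN.isSimpleGroup
  have hna : ¬ IsMulCommutative N := by
    intro h
    apply innS_nonabelian (K := K)
    refine ⟨⟨fun a b => ?_⟩⟩
    apply eN.symm.injective
    rw [map_mul, map_mul]
    exact h.is_comm.comm _ _
  have hq : IsQuasisimple N := H427.isQuasisimple_of_simple hNs hna
  have hcent : Subgroup.centralizer (N : Set G) ≤ N := by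
    intro c hc
    rw [Subgroup.mem_centralizer_iff] at hc
    have h1 : ((e c : GG Y) : MulAut (SL3 K)) = 1 := by
      apply fixes_of_commute
      intro s
      obtain ⟨n, hn⟩ := e.surjective ⟨MulAut.conj s, Subgroup.mem_sup_left ⟨s, rfl⟩⟩
      have hnN : n ∈ N := by
        rw [hNdef, Subgroup.mem_comap, Subgroup.mem_subgroupOf]
        change ((e n : GG Y) : MulAut (SL3 K)) ∈ InnS K
        rw [hn]
        exact ⟨s, rfl⟩
      have h2 := congrArg (fun g => ((e g : GG Y) : MulAut (SL3 K))) (hc n hnN)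
      simp only [map_mul, Subgroup.coe_mul, hn] at h2
      exact h2.symm
    have h2 : c = 1 := by
      apply e.injective
      rw [map_one]
      exact Subtype.ext h1
    rw [h2]
    exact one_mem _
  have hF : N = generalizedFittingSubgroup G := H831.GenFit.eq_fstar hNn hq hcent
  have hperf : ⁅N, N⁆ = N := by
    have h1 : commutator N = ⊤ := (Group.isPerfect_def).1 hq.1
    have h2 := congrArg (Subgroup.map N.subtype) h1
    rw [commutator_def, Subgroup.map_commutator, ← MonoidHom.range_eq_map, Subgroup.range_subtype] at h2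
    exact h2
  have := Fact.mk Nat.prime_two
  have hNres : N ≤ pResidual 2 G := S2906.perfect_le_pResidual N hperf
  have hMi : M.index = 2 := by
    rw [hMdef, Subgroup.index_comap_of_surjective _ hsurj]
    exact MM_relIndex hY
  have hNi : N.index = (InnS K).relIndex (GG Y) := by
    rw [hNdef, Subgroup.index_comap_of_surjective _ hsurj]
    rfl
  have hNM : N ≤ M := by
    rw [hNdef, hMdef]
    refine Subgroup.comap_mono fun x hx => ?_
    rw [Subgroup.mem_subgroupOf] at hx ⊢
    exact Subgroup.mem_sup_left hx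
  have hodd : Odd (N.relIndex M) := by
    have h1 := Subgroup.relIndex_mul_index hNM
    have h2 := Subgroup.relIndex_mul_relIndex (InnS K) (MM Y) (GG Y) le_sup_left MM_le
    rw [hMi, hNi, ← h2, MM_relIndex hY] at h1
    have h3 : N.relIndex M = (InnS K).relIndex (MM Y) := Nat.eq_of_mul_eq_mul_right (by norm_num) h1
    rw [h3]
    exact innS_relIndex hY
  have hR : pResidual 2 G = M := residual_eq hNres hMi hodd
  rw [← hF]
  refine ⟨⟨eN.trans innS_equiv⟩, hNres, ?_, ?_⟩
  · rw [hR]
    exact hodd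
  · rw [hR]
    exact hMi

end Cfsg.Agent.H497.HM
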