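import Cfsg.Agent.H497.HM.GNorm
import Cfsg.Agent.LieClassical.SLGen
import Cfsg.Agent.S0243

/-!
# S5175 L, group side: orders (helper497)

`stG1 : StG1`, and the subgroup `MM Y = InnS ⊔ (Y ⊓ DF)` of index two of `GG Y`.
-/

set_option autoImplicit false

namespace Cfsg.Agent.H497.HM

open Cfsg Cfsg.Agent.H780.HL

variable {K : Type} [Field K] [Fintype K]

omit [Fintype K] in
theorem ker_conj : (MulAut.conj : SL3 K →* MulAut (SL3 K)).ker = Subgroup.center (SL3 K) := by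
  ext z
  rw [MonoidHom.mem_ker, Subgroup.mem_center_iff]
  constructor
  · intro h g
    have h1 : z * g * z⁻¹ = g := by
      have := congrArg (fun f : MulAut (SL3 K) => f g) h
      simpa using this
    rw [mul_inv_eq_iff_eq_mul] at h1
    exact h1.symm
  · intro h
    apply MulEquiv.ext
    intro g
    rw [MulAut.conj_apply, ← h g, mul_inv_cancel_right]
    rfl

/-- the inner automorphism group of `SL₃(K)` is `PSL₃(K)` -/
noncomputable def innS_equiv : ↥(InnS K) ≃* Matrix.ProjectiveSpecialLinearGroup (Fin 3) K :=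
  (QuotientGroup.quotientKerEquivRange (MulAut.conj : SL3 K →* MulAut (SL3 K))).symm.trans
    (QuotientGroup.quotientMulEquivOfEq ker_conj)

theorem card_psl3 (h2 : ∃ n : ℕ, Fintype.card K = 2 ^ n) :
    ∃ m : ℕ, Odd m ∧ Nat.card (Matrix.ProjectiveSpecialLinearGroup (Fin 3) K) = Fintype.card K ^ 3 * m := by
  obtain ⟨n, hn⟩ := h2
  set q := Fintype.card K with hq
  have hq2 : 2 ≤ q := Fintype.one_lt_card
  have hn0 : n ≠ 0 := by
    rintro rfl
    omega
  have hev : Even q := by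
    rw [hn]
    exact (Nat.even_pow.2 ⟨even_two, hn0⟩)
  have h := S0243.result (F := K) rfl 3 (by norm_num)
  rw [← hq] at h
  set P := Nat.card (Matrix.ProjectiveSpecialLinearGroup (Fin 3) K) with hP
  have h1 : ∏ i : Fin 3, (q ^ 3 - q ^ (i : ℕ)) = (q ^ 3 - 1) * (q ^ 3 - q) * (q ^ 3 - q ^ 2) := by
    rw [Fin.prod_univ_three]
    simp
  rw [h1] at h
  obtain ⟨k, hk⟩ : ∃ k, q = k + 2 := ⟨q - 2, by omega⟩
  have e1 : q ^ 3 - q = q * (q ^ 2 - 1) := by
    rw [Nat.mul_sub, mul_one]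
    congr 1
    ring
  have e2 : q ^ 3 - q ^ 2 = q ^ 2 * (q - 1) := by
    rw [Nat.mul_sub, mul_one]
    congr 1
  rw [e1, e2] at h
  have h3 : Nat.gcd 3 (q - 1) * P = q ^ 3 * ((q ^ 2 - 1) * (q ^ 3 - 1)) := by
    apply Nat.eq_of_mul_eq_mul_left (show 0 < q - 1 by omega)
    calc (q - 1) * (Nat.gcd 3 (q - 1) * P) = Nat.gcd 3 (q - 1) * ((q - 1) * P) := by ring
      _ = _ := h
      _ = _ := by ring
  have hqo : ∀ j : ℕ, j ≠ 0 → Odd (q ^ j - 1) := by
    intro j hj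
    have h4 : Even (q ^ j) := Nat.even_pow.2 ⟨hev, hj⟩
    have h5 : 1 ≤ q ^ j := Nat.one_le_pow _ _ (by omega)
    exact Nat.Even.sub_odd h5 h4 odd_one
  have hodd : Odd ((q ^ 2 - 1) * (q ^ 3 - 1)) := (hqo 2 (by norm_num)).mul (hqo 3 (by norm_num))
  have hgo : Odd (Nat.gcd 3 (q - 1)) := by
    have h4 : Nat.gcd 3 (q - 1) ∣ 3 := Nat.gcd_dvd_left _ _
    exact Odd.of_dvd_nat (by decide) h4
  have hcop : Nat.Coprime (q ^ 3) (Nat.gcd 3 (q - 1)) := by
    generalize Nat.gcd 3 (q - 1) = t at hgo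
    rw [hn, ← pow_mul]
    exact Nat.Coprime.pow_left _ (Nat.coprime_two_left.2 hgo)
  have hdvd : q ^ 3 ∣ P := hcop.dvd_of_dvd_mul_left ⟨_, h3⟩
  obtain ⟨m, hm⟩ := hdvd
  refine ⟨m, ?_, hm⟩
  rw [hm] at h3
  have h4 : Nat.gcd 3 (q - 1) * m = (q ^ 2 - 1) * (q ^ 3 - 1) := by
    apply Nat.eq_of_mul_eq_mul_left (show 0 < q ^ 3 by positivity)
    calc q ^ 3 * (Nat.gcd 3 (q - 1) * m) = Nat.gcd 3 (q - 1) * (q ^ 3 * m) := by ring
      _ = _ := h3
  rw [← h4] at hodd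
  exact (Nat.odd_mul.1 hodd).2

theorem card_innS (h2 : ∃ n : ℕ, Fintype.card K = 2 ^ n) :
    ∃ m : ℕ, Odd m ∧ Nat.card (InnS K) = Fintype.card K ^ 3 * m := by
  rw [Nat.card_congr (innS_equiv (K := K)).toEquiv]
  exact card_psl3 h2

theorem card_Th [CharP K 2] : Nat.card (Th K) = Fintype.card K ^ 3 := by
  have e : (K × K × K) ≃ Th K := by
    refine Equiv.ofBijective (fun p => ⟨MulAut.conj (um p.1 p.2.1 p.2.2), ⟨_, _, _, rfl⟩⟩) ⟨?_, ?_⟩
    · rintro ⟨a, b, c⟩ ⟨a', b', c'⟩ h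
      obtain ⟨h1, h2, h3⟩ := conj_um_inj (congrArg Subtype.val h)
      simp only at h1 h2 h3
      rw [h1, h2, h3]
    · rintro ⟨_, a, b, c, rfl⟩
      exact ⟨(a, b, c), rfl⟩
  rw [← Nat.card_congr e, Nat.card_prod, Nat.card_prod, Nat.card_eq_fintype_card]
  ring

variable {Y : Subgroup (MulAut (SL3 K))}

omit [Fintype K] in
/-- inner automorphisms in `DD` are in `DF` -/
theorem inn_DD [CharP K 2] {s : SL3 K} (h : MulAut.conj s ∈ DD K) : MulAut.conj s ∈ DF K := by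
  by_contra hn
  refine no_swap s⁻¹ fun b c => ?_
  obtain ⟨a', c', e⟩ := not_DF_V h hn b c
  refine ⟨a', c', ?_⟩
  rw [MulAut.conj_apply] at e
  rw [← e]
  group

theorem inf_le_DF (hY : GY Y) : InnS K ⊓ Y ≤ DF K := by
  have := charP_two hY.char2
  rintro _ ⟨⟨s, rfl⟩, hs⟩
  exact inn_DD (hY.le hs)

theorem relIndex_DF (hY : GY Y) : (DF K).relIndex Y = 2 := by
  obtain ⟨y, hy, hyn⟩ := SetLike.not_le_iff_exists.1 hY.nle
  rw [Subgroup.relIndex, Subgroup.index_eq_two_iff]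
  refine ⟨⟨y, hy⟩, ?_⟩
  rintro ⟨z, hz⟩
  rw [Subgroup.mem_subgroupOf, Subgroup.mem_subgroupOf]
  change Xor (z * y ∈ DF K) (z ∈ DF K)
  have hy' := hY.le hy
  have hz' := hY.le hz
  obtain ⟨ν, ν', σ, rfl | rfl⟩ := hy'
  · exact absurd ⟨ν, ν', σ, rfl⟩ hyn
  obtain ⟨μ, μ', τ, rfl | rfl⟩ := hz'
  · right
    have h1 : dg μ μ' τ ∈ DF K := ⟨μ, μ', τ, rfl⟩
    exact ⟨h1, fun h => hyn ((Subgroup.mul_mem_cancel_left _ h1).1 h)⟩
  · left
    constructor
    · rw [mul_assoc, ← mul_assoc gr, gr_mul_dg, mul_assoc, gr_mul_gr, mul_one]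
      exact mul_mem ⟨_, _, _, rfl⟩ ⟨_, _, _, rfl⟩
    · intro h
      have h1 : dg μ μ' τ ∈ DF K := ⟨μ, μ', τ, rfl⟩
      have h2 : dg ν ν' σ ∈ DF K := ⟨ν, ν', σ, rfl⟩
      exact hyn (mul_mem h2 ((Subgroup.mul_mem_cancel_left _ h1).1 h))

theorem card_mul_rel {G : Type*} [Group G] {H L : Subgroup G} (h : H ≤ L) :
    Nat.card H * H.relIndex L = Nat.card L := by
  rw [← Nat.card_congr (Subgroup.subgroupOfEquivOfLe h).toEquiv]
  exact Subgroup.card_mul_index (H.subgroupOf L)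

/-- the diagonal · field part of `Y` -/
abbrev YF (Y : Subgroup (MulAut (SL3 K))) : Subgroup (MulAut (SL3 K)) := Y ⊓ DF K

theorem card_YF (hY : GY Y) : Odd (Nat.card (YF Y)) ∧ Nat.card Y = 2 * Nat.card (YF Y) := by
  have h1 := relIndex_DF hY
  have h2 : Nat.card (YF Y) * (DF K).relIndex Y = Nat.card Y := by
    have h3 : (DF K).relIndex Y = (YF Y).relIndex Y := by
      rw [Subgroup.inf_relIndex_left]
    rw [h3]
    exact card_mul_rel inf_le_left
  rw [h1] at h2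
  obtain ⟨m, hm, hc⟩ := hY.card
  refine ⟨?_, by omega⟩
  have : Nat.card (YF Y) = m := by omega
  rw [this]
  exact hm

/-- the subgroup of index two -/
abbrev MM (Y : Subgroup (MulAut (SL3 K))) : Subgroup (MulAut (SL3 K)) := InnS K ⊔ YF Y

theorem card_sup (A : Subgroup (MulAut (SL3 K))) :
    Nat.card (InnS K ⊔ A : Subgroup (MulAut (SL3 K))) = Nat.card (InnS K) * (InnS K).relIndex A := by
  have := innS_normal (K := K)
  rw [← Subgroup.relIndex_sup_left A (InnS K)]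
  exact (card_mul_rel le_sup_left).symm

theorem relIndex_YF (hY : GY Y) : Odd ((InnS K).relIndex (YF Y)) ∧
    (InnS K).relIndex Y = 2 * (InnS K).relIndex (YF Y) := by
  obtain ⟨h1, h2⟩ := card_YF hY
  have h3 : Nat.card (InnS K ⊓ YF Y : Subgroup _) * (InnS K).relIndex (YF Y) = Nat.card (YF Y) := by
    rw [← Subgroup.inf_relIndex_right]
    exact card_mul_rel inf_le_right
  have h4 : Nat.card (InnS K ⊓ Y : Subgroup _) * (InnS K).relIndex Y = Nat.card Y := by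
    rw [← Subgroup.inf_relIndex_right]
    exact card_mul_rel inf_le_right
  have h5 : (InnS K ⊓ YF Y : Subgroup (MulAut (SL3 K))) = InnS K ⊓ Y := by
    apply le_antisymm
    · exact inf_le_inf_left _ inf_le_left
    · exact le_inf inf_le_left (le_inf inf_le_right (inf_le_DF hY))
  rw [h5] at h3
  refine ⟨?_, ?_⟩
  · rw [← h3] at h1
    exact (Nat.odd_mul.1 h1).2
  · rw [h2, ← h3] at h4
    have hpos : 0 < Nat.card (InnS K ⊓ Y : Subgroup (MulAut (SL3 K))) := Nat.card_pos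
    apply Nat.eq_of_mul_eq_mul_left hpos
    rw [h4]
    ring

/-- **G1.** -/
theorem stG1 : StG1 := by
  intro K _ _ Y hY
  have := charP_two hY.char2
  obtain ⟨m, hm, hc⟩ := card_innS hY.char2
  obtain ⟨h1, h2⟩ := relIndex_YF hY
  refine ⟨⟨m * (InnS K).relIndex (YF Y), hm.mul h1, ?_⟩, ⟨m, hm, hc⟩, card_Th⟩
  rw [card_sup, hc, h2]
  ring

theorem card_MM (hY : GY Y) : Nat.card (GG Y) = 2 * Nat.card (MM Y) := by
  rw [card_sup, card_sup, (relIndex_YF hY).2]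
  ring

omit [Fintype K] in
theorem MM_le : MM Y ≤ GG Y := sup_le_sup_left inf_le_left _

theorem MM_relIndex (hY : GY Y) : (MM Y).relIndex (GG Y) = 2 := by
  have h1 := card_mul_rel (MM_le (Y := Y))
  rw [card_MM hY, mul_comm] at h1
  exact Nat.eq_of_mul_eq_mul_right Nat.card_pos h1

theorem innS_relIndex (hY : GY Y) : Odd ((InnS K).relIndex (MM Y)) := by
  have := innS_normal (K := K)
  rw [Subgroup.relIndex_sup_left]
  exact (relIndex_YF hY).1

end Cfsg.Agent.H497.HM
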