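import Cfsg.Agent.H756.HM.Stmts

/-!
# S5175, tasks L1 / L2: the interface between the fusion side and the group side (helper497)

* `LModel F T` : a model `M` of `N_F(T)`: a finite group `M ≥ j(S)` with `j(T)` normal, self-centralizing, inducing on
  `S` exactly the maps of `N_F(T)`;
* `LCoord` : coordinates `T = {u a b c}`, `V = {b = 0}`, `V^x = {a = 0}`, `E = SL₂(K)` on `(c, a)`, `M = j(T) H ⟨j y⟩`
  with `H` of odd order acting by semilinear diagonal maps and `y² = 1`, `y (a,b,c) y⁻¹ = (σ b, σ a, σ (c + a b))`;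
* `StL1` : `Big` with `D = 1` and all essential subgroups in `T` has coordinates (task L1);
* `StL2` : coordinates imply the conclusion (task L2).
-/

set_option autoImplicit false

namespace Cfsg.Agent.H497.HM

open Cfsg Cfsg.FusionSystem Cfsg.Agent.H756.HM
open scoped MatrixGroups

universe u

/-- a model of `N_F(T)` (`T` normal in `S`) -/
structure LModel {Ω : Type u} [Group Ω] {S : Subgroup Ω} (F : FusionSystem S) (T : Subgroup Ω) where
  M : Type u
  grp : Group M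
  fin : Finite M
  j : S →* M
  inj : Function.Injective j
  nor : ((T.subgroupOf S).map j).Normal
  cent : Subgroup.centralizer (((T.subgroupOf S).map j : Subgroup M) : Set M) ≤ (T.subgroupOf S).map j
  model : ∀ (P : Subgroup Ω) (hP : P ≤ S) (φ : P →* Ω) (hφ : ∀ p : P, φ p ∈ S),
    φ ∈ F.normalizerHom T P ↔ ∃ m : M, ∀ p : P, j ⟨φ p, hφ p⟩ = m * j ⟨p, hP p.2⟩ * m⁻¹

/-- coordinates of a `Big` configuration of type `PSL₃(K)` -/
structure LCoord {Ω : Type u} [Group Ω] {S : Subgroup Ω} (F : FusionSystem S) (K : Type) [Field K] [Fintype K]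
    (V T : Subgroup Ω) (x : Ω) (b : Big F K V T x) where
  md : LModel F T
  σ : K ≃+* K
  σσ : ∀ a, σ (σ a) = a
  u : K → K → K → Ω
  u_inj : ∀ a b c a' b' c', u a b c = u a' b' c' → a = a' ∧ b = b' ∧ c = c'
  u_T : ∀ t : Ω, t ∈ T ↔ ∃ a b c, t = u a b c
  u_mul : ∀ a b c a' b' c', u a b c * u a' b' c' = u (a + a') (b + b') (c + c' + a * b')
  u_V : ∀ a b c, u a b c ∈ V ↔ b = 0
  u_Vx : ∀ a b c, u a b c ∈ cj x V ↔ a = 0
  /-- `E` acts on `(c, a)` as `SL₂(K)` -/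
  u_E : ∀ e : MulAut V, e ∈ b.E ↔ ∃ g : SL(2, K), ∀ (a c : K) (v v' : V), (v : Ω) = u a 0 c →
    (v' : Ω) = u (g 1 0 * c + g 1 1 * a) 0 (g 0 0 * c + g 0 1 * a) → e v = v'
  y : Ω
  y_mem : y ∈ S
  y_not : y ∉ T
  y_sq : y * y = 1
  y_act : ∀ a b c, y * u a b c * y⁻¹ = u (σ b) (σ a) (σ (c + a * b))
  /-- the odd order group of diagonal · field automorphisms, as a subgroup of the model -/
  H : @Subgroup md.M md.grp
  H_odd : Odd (Nat.card H)
  H_y : letI := md.grp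
    ∀ h ∈ H, md.j ⟨y, y_mem⟩ * h * (md.j ⟨y, y_mem⟩)⁻¹ ∈ H
  H_act : letI := md.grp
    ∀ h ∈ H, ∃ (α β : K) (τ : K ≃+* K), α ≠ 0 ∧ β ≠ 0 ∧ ∀ (a b c : K) (s s' : S), (s : Ω) = u a b c →
      (s' : Ω) = u (α * τ a) (β * τ b) (α * β * τ c) → h * md.j s * h⁻¹ = md.j s'
  /-- `M = j(T) H ⟨j y⟩` -/
  gen : letI := md.grp
    ∀ m : md.M, ∃ s : S, (s : Ω) ∈ T ∧ ∃ h ∈ H, m = md.j s * h ∨ m = md.j s * h * md.j ⟨y, y_mem⟩

/-- L1 -/
def StL1 : Prop :=
  ∀ {Ω : Type u} [Group Ω] {S : Subgroup Ω} [Finite S], IsPGroup 2 S →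
    ∀ (F : FusionSystem S), F.IsSaturated 2 →
    ∀ (K : Type) [Field K] [Fintype K] (V T : Subgroup Ω) (x : Ω) (b : Big F K V T x),
    fixS V b.E = ⊥ → Nonempty (LCoord F K V T x b)

/-- L2 -/
def StL2 : Prop :=
  ∀ {Ω : Type u} [Group Ω] {S : Subgroup Ω} [Finite S], IsPGroup 2 S →
    ∀ (F : FusionSystem S), F.IsSaturated 2 →
    ∀ (K : Type) [Field K] [Fintype K] (V T : Subgroup Ω) (x : Ω) (b : Big F K V T x),
    LCoord F K V T x b → (∀ R : Subgroup Ω, F.IsEssential 2 R → R ≤ T) → Concl F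

end Cfsg.Agent.H497.HM
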