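import Cfsg.Agent.H780.HL.SL3
import Mathlib.FieldTheory.Finite.Basic

/-!
# S5175 L, group side: matrices normalizing the unitriangular group and its subgroups (helper497)
-/

set_option autoImplicit false

namespace Cfsg.Agent.H497.HM

open Cfsg.Agent.H780.HL

variable {K : Type*} [Field K]

theorem um_val (a b c : K) : (um a b c).1 = !![1, b, c; 0, 1, a; 0, 0, 1] := rfl

theorem add_self [CharP K 2] (t : K) : t + t = 0 := by
  rw [← two_mul, show (2 : K) = 0 from CharP.cast_eq_zero K 2, zero_mul]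

theorem um_sq [CharP K 2] (a b c : K) : um a b c * um a b c = um 0 0 (b * a) := by
  rw [um_mul, add_self, add_self, add_self, zero_add]

theorem um_pow_four [CharP K 2] (a b c : K) : um a b c ^ 4 = 1 := by
  rw [show 4 = 2 * 2 from rfl, pow_mul, pow_two (um a b c), um_sq, pow_two, um_mul, add_self, add_self, mul_zero,
    add_zero, ← um_zero]

/-- central elements have order dividing 3 -/
theorem center_pow {z : SL3 K} (hz : z ∈ Subgroup.center (SL3 K)) : z ^ 3 = 1 := by
  obtain ⟨r, hr, hrz⟩ := Matrix.SpecialLinearGroup.mem_center_iff.1 hz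
  apply Subtype.ext
  have h1 : (z ^ 3).1 = z.1 ^ 3 := by
    rw [pow_succ, pow_two, val_mul, val_mul, pow_succ, pow_two]
  rw [h1]
  have h2 : z.1 = Matrix.scalar (Fin 3) r := hrz.symm
  rw [h2, ← map_pow]
  rw [Fintype.card_fin] at hr
  rw [hr, map_one]
  rfl

theorem conj_eq {g h : SL3 K} (e : MulAut.conj g = MulAut.conj h) : h⁻¹ * g ∈ Subgroup.center (SL3 K) := by
  rw [Subgroup.mem_center_iff]
  intro k
  have h1 : g * k * g⁻¹ = h * k * h⁻¹ := by
    have := congrArg (fun f : MulAut (SL3 K) => f k) e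
    simpa using this
  have h2 : g * k = h * k * h⁻¹ * g := by rw [← h1]; group
  calc k * (h⁻¹ * g) = h⁻¹ * (h * k * h⁻¹ * g) := by group
    _ = h⁻¹ * (g * k) := by rw [h2]
    _ = h⁻¹ * g * k := by group

/-- equality of conjugations by elements of exponent 4 -/
theorem eq_of_conj {g h : SL3 K} (hg : g ^ 4 = 1) (hh : h ^ 4 = 1) (e : MulAut.conj g = MulAut.conj h) : g = h := by
  have h1 := conj_eq e
  have h2 := center_pow h1
  have hc : Commute h (h⁻¹ * g) := Subgroup.mem_center_iff.1 h1 h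
  have h3 : (h * (h⁻¹ * g)) ^ 4 = 1 := by rw [mul_inv_cancel_left, hg]
  rw [hc.mul_pow, hh, one_mul, pow_succ, h2, one_mul] at h3
  exact (inv_mul_eq_one.1 h3).symm

theorem conj_um_inj [CharP K 2] {a b c a' b' c' : K} (e : MulAut.conj (um a b c) = MulAut.conj (um a' b' c')) :
    a = a' ∧ b = b' ∧ c = c' :=
  um_injective (eq_of_conj (um_pow_four a b c) (um_pow_four a' b' c') e)

/-- from conjugations to matrices -/
theorem mat_of_conj [CharP K 2] {s : SL3 K} {a b c a' b' c' : K}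
    (h : MulAut.conj s * MulAut.conj (um a b c) * (MulAut.conj s)⁻¹ = MulAut.conj (um a' b' c')) :
    s * um a b c = um a' b' c' * s := by
  have h1 : MulAut.conj (s * um a b c * s⁻¹) = MulAut.conj (um a' b' c') := by
    rw [map_mul, map_mul, map_inv, h]
  have h2 := eq_of_conj (by rw [conj_pow, um_pow_four, mul_one, mul_inv_cancel]) (um_pow_four _ _ _) h1
  rw [← h2, inv_mul_cancel_right]

theorem left_um (s : SL3 K) (a b c : K) (i : Fin 3) : (s * um a b c).1 i 0 = s.1 i 0 ∧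
    (s * um a b c).1 i 1 = s.1 i 0 * b + s.1 i 1 ∧
    (s * um a b c).1 i 2 = s.1 i 0 * c + s.1 i 1 * a + s.1 i 2 := by
  refine ⟨?_, ?_, ?_⟩ <;> rw [val_mul_apply] <;> simp [um]

theorem right_um (s : SL3 K) (a b c : K) (j : Fin 3) : (um a b c * s).1 0 j = s.1 0 j + b * s.1 1 j + c * s.1 2 j ∧
    (um a b c * s).1 1 j = s.1 1 j + a * s.1 2 j ∧ (um a b c * s).1 2 j = s.1 2 j := by
  refine ⟨?_, ?_, ?_⟩ <;> rw [val_mul_apply] <;> simp [um]

/-- a matrix normalizing the unitriangular group is upper triangular -/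
theorem upper_of_norm [CharP K 2] {s : SL3 K} (h : ∀ a b c : K, ∃ a' b' c' : K, s * um a b c = um a' b' c' * s) :
    s.1 1 0 = 0 ∧ s.1 2 0 = 0 ∧ s.1 2 1 = 0 := by
  obtain ⟨a', b', c', h1⟩ := h 1 1 0
  obtain ⟨k, h2⟩ : ∃ k, s * um 0 0 1 = um 0 0 k * s := by
    refine ⟨b' * a', ?_⟩
    have e1 : um (0 : K) 0 1 = um 1 1 0 * um 1 1 0 := by rw [um_sq, mul_one]
    rw [e1, ← mul_assoc, h1, mul_assoc, h1, ← mul_assoc, um_sq]
  have e (i j : Fin 3) : (s * um 0 0 1).1 i j = (um 0 0 k * s).1 i j := by rw [h2]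
  have hk : k ≠ 0 := by
    rintro rfl
    rw [um_zero, one_mul] at h2
    have h3 : um (0 : K) 0 1 = um 0 0 0 := by
      rw [um_zero]
      exact mul_left_cancel (h2.trans (mul_one s).symm)
    exact one_ne_zero (um_injective h3).2.2
  have e22 := e 2 2
  rw [(left_um s 0 0 1 2).2.2, (right_um s 0 0 k 2).2.2] at e22
  have e12 := e 1 2
  rw [(left_um s 0 0 1 1).2.2, (right_um s 0 0 k 2).2.1] at e12
  have e01 := e 0 1
  rw [(left_um s 0 0 1 0).2.1, (right_um s 0 0 k 1).1] at e01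
  refine ⟨?_, ?_, ?_⟩
  · linear_combination e12
  · linear_combination e22
  · have : k * s.1 2 1 = 0 := by linear_combination -e01
    exact (mul_eq_zero.1 this).resolve_left hk

/-- a matrix normalizing `{um a 0 c}` has last row `(0, 0, *)` -/
theorem row_of_norm {s : SL3 K} (h : ∀ a c : K, ∃ a' c' : K, s * um a 0 c = um a' 0 c' * s) :
    s.1 2 0 = 0 ∧ s.1 2 1 = 0 := by
  obtain ⟨a', c', h1⟩ := h 0 1
  obtain ⟨a2, c2, h2⟩ := h 1 0
  have e1 : (s * um 0 0 1).1 2 2 = (um a' 0 c' * s).1 2 2 := by rw [h1]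
  have e2 : (s * um 1 0 0).1 2 2 = (um a2 0 c2 * s).1 2 2 := by rw [h2]
  rw [(left_um s 0 0 1 2).2.2, (right_um s a' 0 c' 2).2.2] at e1
  rw [(left_um s 1 0 0 2).2.2, (right_um s a2 0 c2 2).2.2] at e2
  exact ⟨by linear_combination e1, by linear_combination e2⟩

/-- no matrix conjugates `{um 0 b c}` into `{um a 0 c}` -/
theorem no_swap (s : SL3 K) (h : ∀ b c : K, ∃ a' c' : K, s * um 0 b c = um a' 0 c' * s) : False := by
  obtain ⟨a', c', h1⟩ := h 0 1
  obtain ⟨a2, c2, h2⟩ := h 1 0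
  have e (i j : Fin 3) : (s * um 0 0 1).1 i j = (um a' 0 c' * s).1 i j := by rw [h1]
  have f (i j : Fin 3) : (s * um 0 1 0).1 i j = (um a2 0 c2 * s).1 i j := by rw [h2]
  have e22 := e 2 2
  rw [(left_um s 0 0 1 2).2.2, (right_um s a' 0 c' 2).2.2] at e22
  have h20 : s.1 2 0 = 0 := by linear_combination e22
  have e01 := e 0 1
  have e02 := e 0 2
  have e11 := e 1 1
  have e12 := e 1 2
  have f01 := f 0 1
  have f02 := f 0 2
  have f11 := f 1 1
  have f12 := f 1 2
  rw [(left_um s 0 0 1 0).2.1, (right_um s a' 0 c' 1).1] at e01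
  rw [(left_um s 0 0 1 0).2.2, (right_um s a' 0 c' 2).1] at e02
  rw [(left_um s 0 0 1 1).2.1, (right_um s a' 0 c' 1).2.1] at e11
  rw [(left_um s 0 0 1 1).2.2, (right_um s a' 0 c' 2).2.1] at e12
  rw [(left_um s 0 1 0 0).2.1, (right_um s a2 0 c2 1).1] at f01
  rw [(left_um s 0 1 0 0).2.2, (right_um s a2 0 c2 2).1] at f02
  rw [(left_um s 0 1 0 1).2.1, (right_um s a2 0 c2 1).2.1] at f11
  rw [(left_um s 0 1 0 1).2.2, (right_um s a2 0 c2 2).2.1] at f12
  -- `(s00, s10) = (c', a') s22 = (c2, a2) s21`, `(c', a') s21 = 0 = (c2, a2) s22`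
  have g1 : c' * s.1 2 1 = 0 := by linear_combination -e01
  have g2 : s.1 0 0 = c' * s.1 2 2 := by linear_combination e02
  have g3 : a' * s.1 2 1 = 0 := by linear_combination -e11
  have g4 : s.1 1 0 = a' * s.1 2 2 := by linear_combination e12
  have g5 : s.1 0 0 = c2 * s.1 2 1 := by linear_combination f01
  have g6 : s.1 1 0 = a2 * s.1 2 1 := by linear_combination f11
  have g7 : c2 * s.1 2 2 = 0 := by linear_combination -f02
  have g8 : a2 * s.1 2 2 = 0 := by linear_combination -f12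
  have hd := s.2
  rw [Matrix.det_fin_three, h20] at hd
  have h00 : s.1 0 0 = 0 := by
    by_cases h : s.1 2 1 = 0
    · rw [g5, h, mul_zero]
    · have : c' = 0 := (mul_eq_zero.1 g1).resolve_right h
      rw [g2, this, zero_mul]
  have h10 : s.1 1 0 = 0 := by
    by_cases h : s.1 2 1 = 0
    · rw [g6, h, mul_zero]
    · have : a' = 0 := (mul_eq_zero.1 g3).resolve_right h
      rw [g4, this, zero_mul]
  rw [h00, h10] at hd
  simp at hd

end Cfsg.Agent.H497.HM
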